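import Cfsg.Agent.Lib.Chev.All
import Cfsg.Agent.Lib.Known.ChevLift.TorusCheck

/-!
# Type D4: every pair of roots is separated by an orthogonal coroot
-/

set_option autoImplicit false
set_option maxRecDepth 20000

namespace CfsgLib.Chev.ScCover

open Cfsg.Lie CfsgLib.Chev.Table CfsgLib.Chev.Lift

theorem chkPairBig_D4 : DataD4.tab.chkPairBig 2 = true := by decide +kernel

theorem pairBig_D4 : PairBig chevD4 2 := pairBig_of_chk DataD4.chk_arrays chkPairBig_D4

end CfsgLib.Chev.ScCover
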