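import Cfsg.Agent.Lib.Chev.All
import Cfsg.Agent.Lib.Known.ChevLift.TorusCheck

/-!
# Type E6: every pair of roots is separated by an orthogonal coroot
-/

set_option autoImplicit false
set_option maxRecDepth 20000

namespace CfsgLib.Chev.ScCover

open Cfsg.Lie CfsgLib.Chev.Table CfsgLib.Chev.Lift

theorem chkPairBig_E6 : DataE6.tab.chkPairBig 2 = true := by decide +kernel

theorem pairBig_E6 : PairBig chevE6 2 := pairBig_of_chk DataE6.chk_arrays chkPairBig_E6

end CfsgLib.Chev.ScCover
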